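import Cfsg.Agent.Fischer480.Defs
import Cfsg.Agent.Fischer891.FinalSp
import Cfsg.Agent.S0480U.UModel
import Cfsg.Agent.LargeExtra.WN7

/-!
# 3-transposition groups with two commuting transpositions on a line of at least four points (helper888, helper876)
-/

set_option autoImplicit false

namespace Cfsg.Agent.Omega.Exit.Types

open Cfsg.Agent.Fischer480.Defs

section

variable {G : Type*} [Group G] {D : Set G}

/-- commuting points `x, y` with two further points `a, b` such that all points commuting with `x` and `y` commute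
with `a` and `b` -/
structure Four (D : Set G) (x y a b : G) : Prop where
  hx : x ∈ D
  hy : y ∈ D
  ha : a ∈ D
  hb : b ∈ D
  xy : x ≠ y
  xa : x ≠ a
  ya : y ≠ a
  xb : x ≠ b
  yb : y ≠ b
  ab : a ≠ b
  cxy : Commute x y
  da : ∀ d ∈ D, Commute d x → Commute d y → Commute d a
  db : ∀ d ∈ D, Commute d x → Commute d y → Commute d b

variable {x y a b : G}

theorem Four.cxa (H : Four D x y a b) : Commute x a := H.da x H.hx (Commute.refl x) H.cxy

theorem Four.cya (H : Four D x y a b) : Commute y a := H.da y H.hy H.cxy.symm (Commute.refl y)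

/-- type `Sp` -/
theorem Four.not_isSp (H : Four D x y a b) {n : ℕ} : ¬ IsSp n D := by
  rintro ⟨B, f, halt, hnd, hne, hcomm, hinj, hsurj⟩
  have key : ∀ c ∈ D, x ≠ c → y ≠ c → (∀ d ∈ D, Commute d x → Commute d y → Commute d c) → f c = f x + f y := by
    intro c hc hxc hyc h
    have h1 : ∀ u, B u (f x) = 0 → B u (f y) = 0 → B u (f c) = 0 := by
      intro u hux huy
      by_cases hu0 : u = 0
      · rw [hu0]; simp
      obtain ⟨z, hz, rfl⟩ := hsurj u hu0
      rw [← hcomm z hz c hc]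
      exact h z hz ((hcomm z hz x H.hx).2 hux) ((hcomm z hz y H.hy).2 huy)
    rcases Cfsg.Agent.Fischer891.FinalSp.span_two B (fun v hv => hnd.2 v hv) h1 with h2 | h2 | h2 | h2
    · exact absurd h2 (hne c hc)
    · exact absurd (hinj c hc x H.hx h2).symm hxc
    · exact absurd (hinj c hc y H.hy h2).symm hyc
    · exact h2
  exact H.ab (hinj a H.ha b H.hb ((key a H.ha H.xa H.ya H.da).trans (key b H.hb H.xb H.yb H.db).symm))

/-- type `T6` -/
theorem Four.not_isT6 (H : Four D x y a b) : ¬ IsT6 D := by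
  rintro ⟨-, h, -⟩
  obtain ⟨F, i1, i2, f, U⟩ := Cfsg.Agent.S0480U.UModel.exists_um (h x H.hx)
  have hy : y ∈ Loc D x := ⟨H.hy, H.xy.symm, H.cxy⟩
  have ha : a ∈ Loc D x := ⟨H.ha, H.xa.symm, H.cxa⟩
  have h1 := (Cfsg.Agent.S0480U.UModel.mem_line_iff U hy hy (Commute.refl y) (u := a)).1
    ⟨ha, fun d hd hdy _ => H.da d hd.1 hd.2.2.symm hdy⟩
  obtain ⟨-, α, β, h2⟩ := h1
  rw [← add_smul] at h2
  exact H.ya (U.inj a ha y hy _ h2).symm

/-- type `T7` -/
theorem Four.not_isT7 (H : Four D x y a b) : ¬ IsT7 D := by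
  rintro ⟨-, h, -⟩
  obtain ⟨-, h', -⟩ := h x H.hx
  have hy : y ∈ Loc D x := ⟨H.hy, H.xy.symm, H.cxy⟩
  have ha : a ∈ Loc D x := ⟨H.ha, H.xa.symm, H.cxa⟩
  obtain ⟨F, i1, i2, f, U⟩ := Cfsg.Agent.S0480U.UModel.exists_um (h' y hy)
  have ha' : a ∈ Loc (Loc D x) y := ⟨ha, H.ya.symm, H.cya⟩
  obtain ⟨w, hw, hwa⟩ := Cfsg.Agent.S0480U.UModel.exists_not_commute U ha'
  exact hwa (H.da w hw.1.1 hw.1.2.2.symm hw.2.2.symm).symm

end

universe u

open Cfsg.Agent.Co2Type.Quad Cfsg.Agent.LargeExtra.WC Cfsg.Agent.LargeExtra.WCIrr Cfsg.Agent.LargeExtra.Wide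

/-- a commuting pair in the weakly closed case is on a line -/
theorem exists_four {G : Type u} [Group G] [Finite G] [IsSimpleGroup G] (hG : ¬ IsMulCommutative G)
    {P : Set G} {Q : G → Subgroup G} (hg : GeoN P Q) {z : G} (hz : z ∈ P) :
    ∃ x y a b : G, Four P x y a b := by
  have hz2 : orderOf z = 2 := orderOf_eq_prime (by rw [pow_two]; exact hg.sq hz) (hg.ne_one hz)
  obtain ⟨g, hg1, hg2⟩ := Cfsg.Agent.StandardComponent.AltFinal.exists_conj hG hz2
  have ht : g * z * g⁻¹ ∈ P := hg.conj_mem z hz g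
  obtain ⟨r₁, r₂, r₃, h⟩ := hg.isL hz ht hg1.symm hg2.symm
  exact ⟨z, g * z * g⁻¹, r₁, r₂, hz, ht, h.h1, h.h2, h.pt, h.p1, h.t1, h.p2, h.t2, h.n12, h.cpt,
    fun d hd h1 h2 => h.comm_line hg hd h1 h2, fun d hd h1 h2 => h.rot.comm_line hg hd h1 h2⟩

end Cfsg.Agent.Omega.Exit.Types
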