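import Cfsg.Agent.Omega.Exit.Types
import Cfsg.Agent.Fischer480.AllPieces
import Cfsg.Agent.Fischer891.FinalSym
import Cfsg.Agent.Fischer891.FinalO
import Cfsg.Agent.Fischer919.FinalU
import Cfsg.Agent.Fischer919.OmegaMain
import Cfsg.Agent.Fischer545.TEight
import Cfsg.Prelude.Def_Classification2

/-!
# The exit of the weakly closed case: `G` is a known simple group (helper876)

`known_of_wc`: `G` finite simple nonabelian, `Q` large extraspecial for `z` of order at least `2 ^ 11` (width at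
least five), `z` weakly closed in `Q`: `G` is `PSU_n(2)` or `PΩ_{2m+1}(3)`, so a known simple group.
-/

set_option autoImplicit false

namespace Cfsg.Agent.Omega.Exit.WeakClosed

open Cfsg Cfsg.Agent.Co2Type.Quad Cfsg.Agent.Fischer480.Defs Cfsg.Agent.Omega.Exit.Types

universe u

variable {G : Type u} [Group G] [Finite G]

/-- a simple group of unitary 3-transposition type -/
theorem isPSU_of_isU [IsSimpleGroup G] (hna : ∃ x y : G, x * y ≠ y * x) {D : Set G} (hD : FGroup D) {n : ℕ}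
    (hn : 4 ≤ n) (hU : IsU n D) : IsPSU G := by
  obtain ⟨F, i1, i2, f, U⟩ := Cfsg.Agent.S0480U.UModel.exists_um hU
  have hFD := Cfsg.Agent.SporadicStructure.FischerSpace.fdata_of_class hD.cls
  have hfin := U.fin
  obtain ⟨e, -⟩ := Cfsg.Agent.Fischer920.PsuEnd.exists_equiv_psu hFD
    (Cfsg.Agent.Fischer919.OmegaMain.center_eq_bot hna)
    (Cfsg.Agent.Fischer919.FinalU.hyp_of_um U hn hFD) U.card U.herm U.dim hn f U.ne U.iso U.comm U.inj U.surj
  exact ⟨F, i1, i2, n, 2, by rw [U.card]; norm_num, by omega, by omega, ⟨e⟩⟩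

/-- a simple group of orthogonal 3-transposition type over the field of three elements -/
theorem isPOmegaOdd_of_isR [IsSimpleGroup G] (hna : ∃ x y : G, x * y ≠ y * x) {D : Set G} (hD : FGroup D) {n : ℕ}
    (hn : 6 ≤ n) (hR : IsR n D) : IsPOmegaOdd G := by
  obtain ⟨m, hm, ⟨e⟩⟩ := Cfsg.Agent.Fischer919.OmegaMain.exists_equiv_pomega hna
    (Cfsg.Agent.SporadicStructure.FischerSpace.fdata_of_class hD.cls) hn hR
  refine ⟨ZMod 3, inferInstance, inferInstance, m, by omega, ?_, ⟨e⟩⟩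
  rw [ZMod.card]
  decide

/-- **the exit of the weakly closed case** -/
theorem known_of_wc [IsSimpleGroup G] (hG : ¬ IsMulCommutative G) {Q : Subgroup G} {z : G} (h : Large Q z)
    (hQ : 2 ^ 11 ≤ Nat.card Q) (hwc : ∀ g : G, g * z * g⁻¹ ∈ Q → g * z * g⁻¹ = z) : IsKnownSimple' G := by
  have hnc : ∃ a b : G, a * b ≠ b * a := by
    by_contra hcon
    push Not at hcon
    exact hG ⟨⟨hcon⟩⟩
  have hR : Cfsg.Agent.LargeExtra.WCIrr.NoRefl Q z :=
    Cfsg.Agent.LargeExtra.WCIrr.noRefl_of_index h (by omega) (fun H => Cfsg.Agent.LargeExtra.WCIrr.index_ne_two hnc H)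
  have hz : z ∈ Cfsg.Agent.LargeExtra.WCIrr.cls z := ⟨1, by group⟩
  have hg := (Cfsg.Agent.LargeExtra.WCIrr.allN_of_wc h hQ hwc hR).geoN
  obtain ⟨x, y, a, b, H⟩ := exists_four hG hg hz
  have hF := Cfsg.Agent.Fischer480.AllPieces.fgroup hnc (hg.isThree hG hz)
  have R := Cfsg.Agent.Fischer891.Cases.rk_of_fgroup hF
  rcases Cfsg.Agent.Fischer480.AllPieces.inList hF with
    ⟨n, hn, h⟩ | ⟨n, hn, h⟩ | ⟨n, hn, h⟩ | ⟨n, hn, h⟩ | ⟨n, hn, h⟩ | h | h | h
  · exact (Cfsg.Agent.Fischer891.FinalSym.not_simple_of_isSym R hn h).elim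
  · exact (H.not_isSp h).elim
  · exact (Cfsg.Agent.Fischer891.FinalO.not_simple_of_isO R hn h).elim
  · exact Or.inr (Or.inr (Or.inr (Or.inr (Or.inl (isPSU_of_isU hnc hF hn h)))))
  · exact Or.inr (Or.inr (Or.inr (Or.inr (Or.inr (Or.inl (isPOmegaOdd_of_isR hnc hF hn h))))))
  · exact (H.not_isT6 h).elim
  · exact (H.not_isT7 h).elim
  · exact (Cfsg.Agent.Fischer545.TEight.not_simple (hg.isThree hG hz) h inferInstance).elim

end Cfsg.Agent.Omega.Exit.WeakClosed
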